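import Cfsg.Agent.PGroup.MaxClass.Power

/-!
Blackburn: in a `p`-group of maximal class all two-step centralisers but the last coincide, and the
last one differs only for even `n` with `n ≤ p + 1`.
-/

set_option autoImplicit false

open scoped commutatorElement

namespace CfsgLib.PGroup.MaxClass

variable {G : Type*} [Group G]

/-- Conjugation by `x` read on a commutator chain. -/
theorem conj_eq_inv_comm_mul (a x : G) : x * a * x⁻¹ = ⁅a, x⁆⁻¹ * a := by
  rw [commutatorElement_def]; group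

theorem comm_inv_left_of_central {a b : G} (hc : ∀ y, Commute ⁅a, b⁆ y) : ⁅a⁻¹, b⁆ = ⁅a, b⁆⁻¹ := by
  rw [show ⁅a⁻¹, b⁆ = a⁻¹ * ⁅a, b⁆⁻¹ * a by simp only [commutatorElement_def]; group,
    ← (hc a⁻¹).inv_left.eq, inv_mul_cancel_right]

theorem comm_inv_right_of_central {a b : G} (hc : ∀ y, Commute ⁅a, b⁆ y) : ⁅a, b⁻¹⁆ = ⁅a, b⁆⁻¹ := by
  rw [show ⁅a, b⁻¹⁆ = b⁻¹ * ⁅a, b⁆⁻¹ * b by simp only [commutatorElement_def]; group,
    ← (hc b⁻¹).inv_left.eq, inv_mul_cancel_right]

/-- The commutator of two products when the cross terms are central. -/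
theorem comm_mul_mul {a b c d : G} (hac : ⁅a, c⁆ = 1) (hbc : Commute ⁅b, c⁆ a)
    (hbda : Commute ⁅b, d⁆ a) (hbdc : Commute ⁅b, d⁆ c) (hadc : Commute ⁅a, d⁆ c) :
    ⁅a * b, c * d⁆ = ⁅b, c⁆ * ⁅b, d⁆ * ⁅a, d⁆ := by
  have h1 : ⁅a * b, c * d⁆ = a * ⁅b, c * d⁆ * a⁻¹ * ⁅a, c * d⁆ := by
    simp only [commutatorElement_def]; group
  have h2 : ∀ u : G, ⁅u, c * d⁆ = ⁅u, c⁆ * (c * ⁅u, d⁆ * c⁻¹) := fun u => by
    simp only [commutatorElement_def]; group
  rw [h1, h2, h2, hac, one_mul, ← hbdc.eq, mul_inv_cancel_right, ← hadc.eq, mul_inv_cancel_right,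
    ← ((hbc.mul_left hbda).eq), mul_inv_cancel_right]

variable [Finite G] {p : ℕ} [Fact p.Prime] {n : ℕ}

namespace IsMaxCl

variable (h : IsMaxCl p G n)
include h

theorem exists_twoStep_notMem : ∃ s ∈ twoStep G 2, s ∉ gam G 2 := by
  by_contra hne
  push_neg at hne
  have h4 := h.four_le
  have h1 := Subgroup.index_dvd_of_le (hne : twoStep G 2 ≤ gam G 2)
  rw [h.index_gam_two, h.index_twoStep le_rfl (by omega)] at h1
  have h2 := Nat.le_of_dvd (Fact.out : p.Prime).pos h1
  have := (Fact.out : p.Prime).two_le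
  nlinarith

theorem commute_gam_last {z : G} (hz : z ∈ gam G (n - 1)) (y : G) : Commute z y := by
  have h4 := h.four_le
  rw [← commutatorElement_eq_one_iff_commute]
  exact h.mem_gam_one (show n ≤ n - 1 + 1 by omega) (comm_mem_gam_succ (by omega) hz y)

/-- Commuting with one generator of a layer suffices for the two-step centraliser. -/
theorem mem_twoStep_of_comm {j : ℕ} (hj : 2 ≤ j) {a g : G} (ha : a ∈ gam G j)
    (ha' : a ∉ gam G (j + 1)) (hc : ⁅g, a⁆ ∈ gam G (j + 2)) : g ∈ twoStep G j := by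
  refine mem_twoStep.2 fun y hy => ?_
  obtain ⟨e, he⟩ := h.exists_pow hj ha ha' hy
  let π := QuotientGroup.mk' (gam G (j + 1 + 1))
  have h1 : Commute (π g) (π (a ^ e)) := by
    rw [map_pow]
    refine Commute.pow_right ?_ e
    rw [← commutatorElement_eq_one_iff_commute, ← map_commutatorElement]
    exact (QuotientGroup.eq_one_iff _).2 hc
  have h2 : Commute (π g) (π ((a ^ e)⁻¹ * y)) := (mk_central (by omega) he _).symm
  rw [← QuotientGroup.eq_one_iff]
  show π ⁅g, y⁆ = 1
  rw [map_commutatorElement, commutatorElement_eq_one_iff_commute]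
  have h3 := h1.mul_right h2
  rwa [← map_mul, mul_inv_cancel_left] at h3

/-- Along a chain `s (k + 1) = ⁅s k, x⁆` the brackets of weight `n - 1` are tied to those of weight
`n - 2`. -/
theorem bracket_relation {x : G} {s : ℕ → G} (hs : ∀ k, 1 ≤ k → s (k + 1) = ⁅s k, x⁆)
    (hsm : ∀ k, 1 ≤ k → s k ∈ gam G k) {i j : ℕ} (hi : 1 ≤ i) (hj : 1 ≤ j) (hij : i + j + 2 = n) :
    ⁅⁅s i, s j⁆, x⁆ = ⁅s (i + 1), s j⁆ * ⁅s i, s (j + 1)⁆ := by
  have hbr : ∀ {k l : ℕ} {u v : G}, 1 ≤ k → 1 ≤ l → n - 1 ≤ k + l → u ∈ gam G k → v ∈ gam G l →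
      ∀ y, Commute ⁅u, v⁆ y := fun hk hl hkl hu hv =>
    h.commute_gam_last (gam_anti hkl (comm_mem_gam hk hl hu hv))
  set y := ⁅s i, s j⁆
  have hy : y ∈ gam G (i + j) := comm_mem_gam hi hj (hsm i hi) (hsm j hj)
  set u := s (i + 1)
  set v := s (j + 1)
  have hu : u ∈ gam G (i + 1) := hsm _ (by omega)
  have hv : v ∈ gam G (j + 1) := hsm _ (by omega)
  have hyz : ∀ {k : ℕ} {w : G}, 2 ≤ k → w ∈ gam G k → Commute y w := fun hk hw => by
    rw [← commutatorElement_eq_one_iff_commute]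
    exact h.mem_gam_one (by omega) (comm_mem_gam (by omega) (by omega) hy hw)
  have hac : ⁅u⁻¹, v⁻¹⁆ = 1 := h.mem_gam_one (by omega : n ≤ i + 1 + (j + 1))
    (comm_mem_gam (by omega) (by omega) (inv_mem hu) (inv_mem hv))
  have hB := hbr hi (show 1 ≤ j + 1 by omega) (by omega) (hsm i hi) hv
  have hA := hbr (show 1 ≤ i + 1 by omega) hj (by omega) hu (hsm j hj)
  have key : x * y * x⁻¹ = ⁅u⁻¹ * s i, v⁻¹ * s j⁆ := by
    rw [show x * y * x⁻¹ = MulAut.conj x y from rfl, map_commutatorElement, MulAut.conj_apply,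
      MulAut.conj_apply, conj_eq_inv_comm_mul, conj_eq_inv_comm_mul, ← hs i hi, ← hs j hj]
  rw [comm_mul_mul hac (by rw [comm_inv_right_of_central hB]; exact (hB _).inv_left)
    (hyz (by omega) (inv_mem hu)) (hyz (by omega) (inv_mem hv))
    (by rw [comm_inv_left_of_central hA]; exact (hA _).inv_left),
    comm_inv_left_of_central hA, comm_inv_right_of_central hB, conj_eq_inv_comm_mul,
    (hB _).inv_left.eq, mul_assoc, ← mul_inv_rev] at key
  rw [← (((hA _).mul_left (hB _)).inv_left).eq] at key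
  exact inv_injective (mul_right_cancel key)

end IsMaxCl

/-- All two-step centralisers but the last coincide with the first. -/
def StepsAgree (G : Type*) [Group G] (n : ℕ) : Prop :=
  ∀ j, 2 ≤ j → j + 3 ≤ n → twoStep G j = twoStep G 2

namespace IsMaxCl

variable (h : IsMaxCl p G n) (hd : StepsAgree G n)
include h hd

theorem comm_twoStep_gam {i : ℕ} (hi : 2 ≤ i) (hin : i + 3 ≤ n) :
    ⁅gam G i, twoStep G 2⁆ ≤ gam G (i + 2) := by
  rw [Subgroup.commutator_le]
  intro a ha t ht
  rw [← commutatorElement_inv]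
  exact inv_mem (mem_twoStep.1 (by rw [hd i hi hin]; exact ht) a ha)

theorem gam_two_le_sup {x : G} (hx : Good G n x) :
    gam G 2 ≤ ⁅twoStep G 2, (⊤ : Subgroup G)⁆ ⊔ gam G 3 := by
  intro y hy
  obtain ⟨s, hs, hs'⟩ := h.exists_twoStep_notMem
  have h1 : ⁅s, x⁆ ∈ gam G 2 := comm_mem_gam_succ le_rfl (gam_one (G := G) ▸ Subgroup.mem_top s) x
  obtain ⟨e, he⟩ := h.exists_pow le_rfl h1 (h.comm_notMem_one hx hs hs') hy
  have := Subgroup.mul_mem_sup (pow_mem (Subgroup.commutator_mem_commutator hs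
    (Subgroup.mem_top x)) e) he
  rwa [mul_inv_cancel_left] at this

/-- Positive degree of commutativity below the last term. -/
theorem gam_comm_pos : ∀ i j, 2 ≤ i → 2 ≤ j → i + j + 2 ≤ n →
    ⁅gam G i, gam G j⁆ ≤ gam G (i + j + 1) := by
  obtain ⟨x, hx⟩ := h.exists_good
  intro i j hi hj
  induction j, hj using Nat.le_induction generalizing i with
  | base =>
    intro hin
    rw [Subgroup.commutator_comm]
    have h1 : ⁅⁅twoStep G 2, (⊤ : Subgroup G)⁆, gam G i⁆ ≤ gam G (i + 2 + 1) := by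
      refine CfsgLib.LowerCentral.commutator_commutator_le_of_rotate ?_ ?_
      · rw [Subgroup.commutator_comm ⊤ (gam G i), ← gam_succ (by omega)]
        exact h.comm_twoStep_gam hd (show 2 ≤ i + 1 by omega) (by omega)
      · refine (Subgroup.commutator_mono (h.comm_twoStep_gam hd hi (by omega)) le_rfl).trans ?_
        rw [← gam_succ (by omega)]
    rw [Subgroup.commutator_le]
    intro a ha b hb
    have ha' := h.gam_two_le_sup hd hx ha
    rw [Subgroup.mem_sup_of_normal_right] at ha'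
    obtain ⟨u, hu, w, hw, rfl⟩ := ha'
    rw [show ⁅u * w, b⁆ = u * ⁅w, b⁆ * u⁻¹ * ⁅u, b⁆ by simp only [commutatorElement_def]; group]
    refine mul_mem ((gam_normal _).conj_mem _ (gam_anti (by omega) (comm_mem_gam (by omega) (by omega) hw hb)) u)
      (h1 (Subgroup.commutator_mem_commutator hu hb))
  | succ j hj ih =>
    intro hin
    rw [gam_succ (show 1 ≤ j by omega), Subgroup.commutator_comm]
    refine CfsgLib.LowerCentral.commutator_commutator_le_of_rotate ?_ ?_
    · rw [Subgroup.commutator_comm ⊤ (gam G i), ← gam_succ (by omega)]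
      have := ih (i + 1) (by omega) (by omega)
      rwa [show i + 1 + j + 1 = i + (j + 1) + 1 by omega] at this
    · refine (Subgroup.commutator_mono (ih i hi (by omega)) le_rfl).trans ?_
      rw [← gam_succ (by omega)]
      exact gam_anti (by omega)

theorem comm_chain_pos {s : ℕ → G} (hsm : ∀ k, 1 ≤ k → s k ∈ gam G k) (hs1 : s 1 ∈ twoStep G 2)
    {i j : ℕ} (hi : 1 ≤ i) (hj : 1 ≤ j) (hij : 3 ≤ i + j) (hn : i + j + 2 ≤ n) :
    ⁅s i, s j⁆ ∈ gam G (i + j + 1) := by
  rcases eq_or_lt_of_le hi with rfl | hi2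
  · rw [← commutatorElement_inv]
    refine inv_mem ?_
    have := h.comm_twoStep_gam hd (show 2 ≤ j by omega) (by omega)
      (Subgroup.commutator_mem_commutator (hsm j hj) hs1)
    rwa [show 1 + j + 1 = j + 2 by omega]
  rcases eq_or_lt_of_le hj with rfl | hj2
  · exact h.comm_twoStep_gam hd hi2 (by omega) (Subgroup.commutator_mem_commutator (hsm i hi) hs1)
  · exact h.gam_comm_pos hd i j hi2 hj2 hn (Subgroup.commutator_mem_commutator (hsm i hi) (hsm j hj))

omit hd in
theorem exists_chain {x : G} (hx : Good G n x) : ∃ s : ℕ → G, (∀ k, 1 ≤ k → s (k + 1) = ⁅s k, x⁆) ∧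
    (∀ k, 1 ≤ k → s k ∈ gam G k) ∧ s 1 ∈ twoStep G 2 ∧
      ∀ k, 1 ≤ k → k < n → s k ∉ gam G (k + 1) := by
  obtain ⟨s1, hs1, hs1'⟩ := h.exists_twoStep_notMem
  let s : ℕ → G := fun k => Nat.rec (motive := fun _ => G) s1
    (fun m r => if m = 0 then s1 else ⁅r, x⁆) k
  have hs : ∀ k, 1 ≤ k → s (k + 1) = ⁅s k, x⁆ := fun k hk => if_neg (by omega)
  have hsm : ∀ k, 1 ≤ k → s k ∈ gam G k := by
    intro k hk
    induction k, hk using Nat.le_induction with
    | base => rw [gam_one]; exact Subgroup.mem_top _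
    | succ k hk ih => rw [hs k hk]; exact comm_mem_gam_succ hk ih x
  refine ⟨s, hs, hsm, hs1, fun k hk => ?_⟩
  induction k, hk using Nat.le_induction with
  | base => exact fun _ => hs1'
  | succ k hk ih =>
    intro hkn
    rw [hs k hk]
    rcases eq_or_lt_of_le hk with rfl | hk2
    · exact h.comm_notMem_one hx hs1 hs1'
    · exact h.comm_notMem hx hk2 (by omega) (hsm k hk) (ih (by omega))

/-- The brackets of weight `n - 1` along a chain alternate. -/
theorem pairing_alternate {x : G} {s : ℕ → G} (hs : ∀ k, 1 ≤ k → s (k + 1) = ⁅s k, x⁆)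
    (hsm : ∀ k, 1 ≤ k → s k ∈ gam G k) (hs1 : s 1 ∈ twoStep G 2) (h5 : 5 ≤ n) {i j : ℕ}
    (hi : 1 ≤ i) (hj : 1 ≤ j) (hij : i + j + 2 = n) :
    ⁅s (i + 1), s j⁆ * ⁅s i, s (j + 1)⁆ = 1 := by
  rw [← h.bracket_relation hs hsm hi hj hij, commutatorElement_eq_one_iff_commute]
  exact h.commute_gam_last
    (gam_anti (by omega) (h.comm_chain_pos hd hsm hs1 hi hj (by omega) (by omega))) x

omit hd in
theorem twoStep_eq_of_mem {s : G} (hs : s ∈ twoStep G 2) (hs' : s ∉ gam G 2) {j : ℕ} (hj : 2 ≤ j)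
    (hjn : j + 2 ≤ n) (hsj : s ∈ twoStep G j) : twoStep G j = twoStep G 2 := by
  rw [h.eq_of_index (h.index_twoStep hj hjn) hsj hs',
    h.eq_of_index (h.index_twoStep le_rfl (by have := h.four_le; omega)) hs hs']

omit hd in
/-- In the exceptional case the first element of the chain does not centralise `γ_{n-2}`. -/
theorem pairing_one_ne {s : ℕ → G} (hsm : ∀ k, 1 ≤ k → s k ∈ gam G k) (hs1 : s 1 ∈ twoStep G 2)
    (hsn : ∀ k, 1 ≤ k → k < n → s k ∉ gam G (k + 1))
    (hne : twoStep G (n - 2) ≠ twoStep G 2) : ⁅s 1, s (n - 2)⁆ ≠ 1 := by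
  have h4 := h.four_le
  intro h1
  refine hne (h.twoStep_eq_of_mem hs1 ?_ (by omega) (by omega) ?_)
  · have := hsn 1 le_rfl (by omega); exact this
  · refine h.mem_twoStep_of_comm (by omega) (hsm (n - 2) (by omega)) ?_ (h1 ▸ one_mem _)
    exact hsn (n - 2) (by omega) (by omega)

/-- The exceptional case needs `n` even and `n ≤ p + 1`. -/
theorem exceptional_bounds (h5 : 5 ≤ n) (hne : twoStep G (n - 2) ≠ twoStep G 2) :
    Even n ∧ n ≤ p + 1 := by
  have hp2 := (Fact.out : p.Prime).two_le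
  refine ⟨?_, ?_⟩
  · by_contra hev
    obtain ⟨m, hm⟩ := Nat.not_even_iff_odd.1 hev
    obtain ⟨x, hx⟩ := h.exists_good
    obtain ⟨s, hs, hsm, hs1, hsn⟩ := h.exists_chain hx
    have hall : ∀ k, k < m → ⁅s (m - k), s (n - 1 - (m - k))⁆ = 1 := by
      intro k
      induction k with
      | zero =>
        intro _
        rw [Nat.sub_zero, show n - 1 - m = m by omega, commutatorElement_self]
      | succ k ih =>
        intro hk
        have h1 := h.pairing_alternate hd hs hsm hs1 h5 (i := m - (k + 1)) (j := n - 2 - (m - (k + 1)))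
          (by omega) (by omega) (by omega)
        rw [show m - (k + 1) + 1 = m - k by omega,
          show n - 2 - (m - (k + 1)) = n - 1 - (m - k) by omega, ih (by omega), one_mul,
          show n - 1 - (m - k) + 1 = n - 1 - (m - (k + 1)) by omega] at h1
        exact h1
    have h2 := hall (m - 1) (by omega)
    rw [show m - (m - 1) = 1 by omega, show n - 1 - 1 = n - 2 by omega] at h2
    exact h.pairing_one_ne hsm hs1 hsn hne h2
  · by_contra hnp
    obtain ⟨i, hi, hi', he⟩ := h.lines (n - 2) (by omega) (by omega)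
    exact hne (he.trans (hd i hi (by omega)))

end IsMaxCl

/-- All two-step centralisers but possibly the last coincide. -/
theorem IsMaxCl.stepsAgree : ∀ {n : ℕ} {G : Type*} [Group G] [Finite G],
    IsMaxCl p G n → StepsAgree G n := by
  intro n
  induction n using Nat.strong_induction_on with
  | _ n ih =>
  intro G _ _ h j hj hjn
  rcases eq_or_lt_of_le hj with rfl | hj2
  · rfl
  have hp : p.Prime := Fact.out
  have hQ := h.quotient (show 4 ≤ n - 1 by omega) (by omega)
  have hdQ : StepsAgree (G ⧸ gam G (n - 1)) (n - 1) := ih (n - 1) (by omega) hQ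
  have hcomap : ∀ {a b : ℕ}, a + 2 ≤ n - 1 → b + 2 ≤ n - 1 →
      twoStep (G ⧸ gam G (n - 1)) a = twoStep (G ⧸ gam G (n - 1)) b → twoStep G a = twoStep G b := by
    intro a b ha hb hab
    rw [← comap_twoStep ha, hab, comap_twoStep hb]
  rcases Nat.lt_or_ge (j + 3) n with hlt | hge
  · exact hcomap (by omega) (by omega) (hdQ j hj (by omega))
  by_contra hne
  obtain rfl : n = j + 3 := by omega
  have hneQ : twoStep (G ⧸ gam G (j + 3 - 1)) (j + 3 - 1 - 2) ≠
      twoStep (G ⧸ gam G (j + 3 - 1)) 2 := fun he => hne (by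
    rw [show j + 3 - 1 - 2 = j by omega] at he
    exact hcomap (by omega) (by omega) he)
  obtain ⟨heven, hle⟩ := hQ.exceptional_bounds hdQ (by omega) hneQ
  obtain ⟨m, hm⟩ := heven
  have hcomm : ∀ i, 2 ≤ i → i + 4 ≤ j + 3 → ∀ t ∈ twoStep G 2, ∀ a ∈ gam G i,
      ⁅t, a⁆ ∈ gam G (i + 2) := by
    intro i hi hi' t ht
    refine mem_twoStep.1 ?_
    rwa [hcomap (by omega) (by omega) (hdQ i hi (by omega))]
  obtain ⟨x, hx⟩ := h.exists_good
  obtain ⟨s, hs, hsm, hs1, hsn⟩ := h.exists_chain hx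
  let π := QuotientGroup.mk' (gam G (j + 3 - 1))
  have hgQ : ∀ {k : ℕ} {a : G}, a ∈ gam G k → π a ∈ gam _ k := fun {k a} ha => by
    rw [← gam_map π (QuotientGroup.mk'_surjective _)]
    exact Subgroup.mem_map_of_mem _ ha
  have hsQ : ∀ k, 1 ≤ k → π (s (k + 1)) = ⁅π (s k), π x⁆ := fun k hk => by
    rw [hs k hk, map_commutatorElement]
  have hs1Q : π (s 1) ∈ twoStep _ 2 := by
    rw [← Subgroup.mem_comap, comap_twoStep (by omega)]
    exact hs1
  -- the weight `2 m - 1` brackets and their commutators with `x`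
  set z : ℕ → G := fun i => ⁅⁅s i, s (j + 1 - i)⁆, x⁆ with hz
  have hzc : ∀ i, 1 ≤ i → i ≤ j → ∀ y, Commute (z i) y := by
    intro i hi hi'
    refine h.commute_gam_last ?_
    have := comm_mem_gam_succ (show 1 ≤ i + (j + 1 - i) by omega)
      (comm_mem_gam hi (show 1 ≤ j + 1 - i by omega) (hsm i hi) (hsm _ (by omega))) x
    exact gam_anti (by omega) this
  have hzalt : ∀ i, 1 ≤ i → i + 1 ≤ j → z (i + 1) = (z i)⁻¹ := by
    intro i hi hi'
    have h1 := hQ.pairing_alternate hdQ (s := fun k => π (s k)) hsQ (fun k hk => hgQ (hsm k hk))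
      hs1Q (by omega) hi (show 1 ≤ j - i by omega) (by omega)
    simp only [← map_commutatorElement, ← map_mul] at h1
    rw [show j - i + 1 = j + 1 - i by omega] at h1
    have h2 := h.commute_gam_last ((QuotientGroup.eq_one_iff _).1 h1)
    have e : ⁅s (i + 1), s (j - i)⁆ = (⁅s (i + 1), s (j - i)⁆ * ⁅s i, s (j + 1 - i)⁆) *
        ⁅s i, s (j + 1 - i)⁆⁻¹ := by rw [mul_inv_cancel_right]
    show ⁅⁅s (i + 1), s (j + 1 - (i + 1))⁆, x⁆ = _
    rw [show j + 1 - (i + 1) = j - i by omega, e]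
    set c := ⁅s (i + 1), s (j - i)⁆ * ⁅s i, s (j + 1 - i)⁆
    set y := ⁅s i, s (j + 1 - i)⁆ with hy
    rw [show ⁅c * y⁻¹, x⁆ = c * ⁅y⁻¹, x⁆ * c⁻¹ * ⁅c, x⁆ by simp only [commutatorElement_def]; group,
      commutatorElement_eq_one_iff_commute.2 (h2 x), mul_one, (h2 _).eq, mul_inv_cancel_right]
    exact comm_inv_left_of_central (hzc i hi (by omega))
  -- the brackets of weight `2 m`
  set f : ℕ → G := fun i => ⁅s i, s (j + 2 - i)⁆ with hf
  have hfrel : ∀ i, 1 ≤ i → i ≤ j → z i = f (i + 1) * f i := by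
    intro i hi hi'
    have h1 := h.bracket_relation hs hsm hi (show 1 ≤ j + 1 - i by omega) (by omega)
    rw [show j + 1 - i + 1 = j + 2 - i by omega] at h1
    simp only [hz, hf]
    rw [show j + 2 - (i + 1) = j + 1 - i by omega]
    exact h1
  have hfm : ∀ k, k + 1 ≤ m → f (m - k) = z (m - k) ^ k := by
    intro k
    induction k with
    | zero =>
      intro _
      simp only [hf, Nat.sub_zero, pow_zero]
      rw [show j + 2 - m = m by omega, commutatorElement_self]
    | succ k ih =>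
      intro hk
      have h1 := hfrel (m - (k + 1)) (by omega) (by omega)
      have h2 := hzalt (m - (k + 1)) (by omega) (by omega)
      rw [show m - (k + 1) + 1 = m - k by omega] at h1 h2
      rw [ih (by omega), h2, inv_pow] at h1
      rw [pow_succ]
      calc f (m - (k + 1)) = z (m - (k + 1)) ^ k * ((z (m - (k + 1)) ^ k)⁻¹ * f (m - (k + 1))) :=
            (mul_inv_cancel_left _ _).symm
        _ = _ := by rw [← h1]
  have hf1 := hfm (m - 1) (by omega)
  rw [show m - (m - 1) = 1 by omega] at hf1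
  have hy1 : ∀ i, 1 ≤ i → i ≤ j → z i ≠ 1 → ⁅s i, s (j + 1 - i)⁆ ∉ gam G (j + 2) :=
    fun i _ _ hzi hm' => hzi (commutatorElement_eq_one_iff_commute.2
      (h.commute_gam_last (gam_anti (by omega) hm') x))
  have hz1 : z 1 ≠ 1 := by
    intro hc
    have hmem : ⁅s 1, s j⁆ ∈ gam G (j + 1) := by
      have := comm_mem_gam le_rfl (show 1 ≤ j by omega) (hsm 1 le_rfl) (hsm j (by omega))
      rwa [add_comm 1 j] at this
    have hnot : ⁅s 1, s j⁆ ∉ gam G (j + 2) := fun hm' => hne
      (h.twoStep_eq_of_mem hs1 (hsn 1 le_rfl (by omega)) hj (by omega)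
        (h.mem_twoStep_of_comm hj (hsm j (by omega)) (hsn j (by omega) (by omega)) hm'))
    refine h.comm_notMem hx (show 2 ≤ j + 1 by omega) (by omega) hmem hnot ?_
    have e : z 1 = ⁅⁅s 1, s j⁆, x⁆ := by simp only [hz]; rw [show j + 1 - 1 = j by omega]
    rw [← e, hc]
    exact one_mem _
  have hz2 : z 2 ≠ 1 := by rw [hzalt 1 le_rfl (by omega)]; exact inv_ne_one.2 hz1
  -- `s 1` commutes with `⁅s 2, s (2 m - 3)⁆`, hence with `s (2 m - 1)`
  set w := ⁅s 2, s (j - 1)⁆ with hw
  have hw1 : w ∈ gam G (j + 1) := by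
    have := comm_mem_gam (show 1 ≤ 2 by omega) (show 1 ≤ j - 1 by omega) (hsm 2 (by omega))
      (hsm (j - 1) (by omega))
    rwa [show 2 + (j - 1) = j + 1 by omega] at this
  have hwn : w ∉ gam G (j + 1 + 1) := by
    have := hy1 2 (by omega) (by omega) hz2
    rwa [show j + 1 - 2 = j - 1 by omega] at this
  have hsw : Commute (s 1) w := by
    have hu : ⁅s 1, s 2⁆ ∈ gam G 4 := hcomm 2 le_rfl (by omega) _ hs1 _ (hsm 2 (by omega))
    have hv : ⁅s 1, s (j - 1)⁆ ∈ gam G (j + 1) := by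
      have := hcomm (j - 1) (by omega) (by omega) _ hs1 _ (hsm (j - 1) (by omega))
      rwa [show j - 1 + 2 = j + 1 by omega] at this
    have hkill : ∀ {k l : ℕ} {a b : G}, 1 ≤ k → 1 ≤ l → j + 3 ≤ k + l → a ∈ gam G k → b ∈ gam G l →
        ⁅a, b⁆ = 1 := fun hk hl hkl ha hb => h.mem_gam_one hkl (comm_mem_gam hk hl ha hb)
    have e : s 1 * w * (s 1)⁻¹ = ⁅⁅s 1, s 2⁆ * s 2, ⁅s 1, s (j - 1)⁆ * s (j - 1)⁆ := by
      rw [hw, show s 1 * ⁅s 2, s (j - 1)⁆ * (s 1)⁻¹ = MulAut.conj (s 1) ⁅s 2, s (j - 1)⁆ from rfl,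
        map_commutatorElement]
      congr 1 <;> simp only [MulAut.conj_apply, commutatorElement_def] <;> group
    have h1 := hkill (show 1 ≤ 2 by omega) (show 1 ≤ j + 1 by omega) (by omega) (hsm 2 (by omega)) hv
    have h2 := hkill (show 1 ≤ 4 by omega) (show 1 ≤ j - 1 by omega) (by omega) hu (hsm (j - 1) (by omega))
    have h3 := hkill (show 1 ≤ 4 by omega) (show 1 ≤ j + 1 by omega) (by omega) hu hv
    have c1 : Commute w ⁅s 1, s 2⁆ := commutatorElement_eq_one_iff_commute.1
      (hkill (show 1 ≤ j + 1 by omega) (show 1 ≤ 4 by omega) (by omega) hw1 hu)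
    have c2 : Commute w ⁅s 1, s (j - 1)⁆ := commutatorElement_eq_one_iff_commute.1
      (hkill (show 1 ≤ j + 1 by omega) (show 1 ≤ j + 1 by omega) (by omega) hw1 hv)
    rw [comm_mul_mul h3 (h1 ▸ Commute.one_left _) c1 c2 (h2 ▸ Commute.one_left _), h1, h2, one_mul,
      mul_one, ← hw, mul_inv_eq_iff_eq_mul] at e
    exact e
  obtain ⟨e, he⟩ := h.exists_pow (show 2 ≤ j + 1 by omega) hw1 hwn (hsm (j + 1) (by omega))
  have hsf : f 1 = 1 := by
    show ⁅s 1, s (j + 2 - 1)⁆ = 1
    rw [show j + 2 - 1 = j + 1 by omega, ← mul_inv_cancel_left (w ^ e) (s (j + 1)),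
      commutatorElement_eq_one_iff_commute]
    exact (hsw.pow_right e).mul_right (h.commute_gam_last (gam_anti (by omega) he) _).symm
  rw [hsf] at hf1
  have hzp : z 1 ^ p = 1 := by
    have hm1 : z 1 ∈ gam G (j + 2) := by
      have := comm_mem_gam_succ (show 1 ≤ j + 1 by omega) (comm_mem_gam le_rfl (show 1 ≤ j by omega)
        (hsm 1 le_rfl) (hsm j (by omega)) |> fun t => (by rwa [add_comm 1 j] at t)) x
      simp only [hz]
      rwa [show j + 1 - 1 = j by omega]
    have hc := h.card_gam (j + 2) (by omega) (by omega)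
    rw [show j + 3 - (j + 2) = 1 by omega, pow_one] at hc
    have := pow_card_eq_one' (G := gam G (j + 2)) (x := ⟨z 1, hm1⟩)
    rw [hc] at this
    exact congrArg Subtype.val this
  have hdvd : p ∣ m - 1 := by
    rw [← orderOf_eq_prime hzp hz1]
    exact orderOf_dvd_of_pow_eq_one hf1.symm
  have := Nat.le_of_dvd (by omega) hdvd
  omega

namespace IsMaxCl

variable (h : IsMaxCl p G n)
include h

/-- Away from the two two-step centralisers every element is good. -/
theorem good_of_notMem {e : G} (h2 : e ∉ twoStep G 2) (hl : e ∉ twoStep G (n - 2)) : Good G n e := by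
  refine ⟨fun he => h2 (gam_two_le_twoStep (by norm_num) he), fun j hj hjn => ?_⟩
  rcases Nat.lt_or_ge (j + 2) n with hlt | hge
  · rw [h.stepsAgree j hj (by omega)]; exact h2
  · obtain rfl : j = n - 2 := by omega
    exact hl

theorem centralizer_good_le {e : G} (he : Good G n e) :
    Subgroup.centralizer ({e} : Set G) ≤ Subgroup.zpowers e ⊔ gam G (n - 1) := by
  have h4 := h.four_le
  intro w hw
  rw [Subgroup.mem_centralizer_singleton_iff] at hw
  by_cases hmem : w ∈ Subgroup.zpowers e ⊔ gam G 2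
  · rw [Subgroup.mem_sup_of_normal_right] at hmem
    obtain ⟨a, ha, v, hv, rfl⟩ := hmem
    have hca : Commute a e := by
      obtain ⟨k, rfl⟩ := ha
      exact (Commute.refl e).zpow_left k
    have hcv : Commute v e := by
      have h1 : Commute (a * v) e := hw
      have h2 := hca.inv_left.mul_left h1
      rwa [inv_mul_cancel_left] at h2
    exact Subgroup.mul_mem_sup ha (h.mem_gam_of_comm he le_rfl hv
      (by rw [commutatorElement_eq_one_iff_commute.2 hcv]; exact one_mem _))
  · exfalso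
    have htop : Subgroup.centralizer ({e} : Set G) ⊔ frattini G = ⊤ := by
      rw [h.frattini_eq]
      refine Subgroup.index_eq_one.1 ?_
      set C := Subgroup.centralizer ({e} : Set G) ⊔ gam G 2
      set A := Subgroup.zpowers e ⊔ gam G 2
      have hA : A ≤ C := sup_le_sup_right (Subgroup.zpowers_le.2
        (Subgroup.mem_centralizer_singleton_iff.2 rfl)) _
      have hlt : A < C := lt_of_le_of_ne hA fun he' => hmem (he'.ge
        (Subgroup.mem_sup_left (Subgroup.mem_centralizer_singleton_iff.2 hw)))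
      have hlt' : gam G 2 < A := lt_of_le_of_ne le_sup_right fun he' =>
        he.1 (he'.ge (Subgroup.mem_sup_left (Subgroup.mem_zpowers e)))
      have hp : p.Prime := Fact.out
      obtain ⟨a, ha⟩ := h.isPGroup.index A
      obtain ⟨c, hc⟩ := h.isPGroup.index C
      have h1 : C.index < A.index := Subgroup.index_strictAnti hlt
      have h2 : A.index < (gam G 2).index := Subgroup.index_strictAnti hlt'
      rw [h.index_gam_two, ha, Nat.pow_lt_pow_iff_right hp.one_lt] at h2
      rw [ha, hc, Nat.pow_lt_pow_iff_right hp.one_lt] at h1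
      rw [hc, show c = 0 by omega, pow_zero]
    have hc := frattini_nongenerating htop
    refine he.2 2 le_rfl (by omega) (mem_twoStep.2 fun y _ => ?_)
    rw [commutatorElement_eq_one_iff_mul_comm.2
      (Subgroup.mem_centralizer_singleton_iff.1 (hc ▸ Subgroup.mem_top y)).symm]
    exact one_mem _

end IsMaxCl

end CfsgLib.PGroup.MaxClass
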