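import Cfsg.Agent.PGroup.MaxClass.Power
import Mathlib

/-!
Centralisers of good elements of a Sylow subgroup of maximal class.
-/

set_option autoImplicit false

open scoped commutatorElement Pointwise

namespace CfsgLib.PGroup.MaxClass

variable {G : Type*} [Group G] [Finite G] {p : ℕ} [Fact p.Prime]

/-- Largest `p`-subgroups of `H` are conjugate in `H`. -/
theorem exists_conj_of_largest {H A B : Subgroup G} (hA : A ≤ H) (hB : B ≤ H)
    (hAp : IsPGroup p A) (hBp : IsPGroup p B)
    (hmax : ∀ T : Subgroup G, T ≤ H → IsPGroup p T → Nat.card T ≤ Nat.card A)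
    (hcard : Nat.card B = Nat.card A) :
    ∃ g ∈ H, B.map (MulAut.conj g).toMonoidHom = A := by
  have up : ∀ C : Subgroup G, C ≤ H → IsPGroup p C → Nat.card C = Nat.card A →
      ∃ S : Sylow p ↥H, (S : Subgroup ↥H) = C.subgroupOf H := by
    intro C hC hCp hCc
    obtain ⟨S, hS⟩ := (hCp.of_equiv (Subgroup.subgroupOfEquivOfLe hC).symm).exists_le_sylow
    refine ⟨S, (Subgroup.eq_of_le_of_card_ge hS ?_).symm⟩
    have h1 := hmax ((S : Subgroup ↥H).map H.subtype) (Subgroup.map_subtype_le _) (S.2.map _)
    rw [Subgroup.card_map_of_injective H.subtype_injective] at h1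
    rwa [Nat.card_congr (Subgroup.subgroupOfEquivOfLe hC).toEquiv, hCc]
  obtain ⟨S, hS⟩ := up A hA hAp rfl
  obtain ⟨S', hS'⟩ := up B hB hBp hcard
  obtain ⟨g, hg⟩ := MulAction.exists_smul_eq ↥H S' S
  refine ⟨g, g.2, ?_⟩
  refine Subgroup.eq_of_le_of_card_ge ?_ ?_
  · rintro _ ⟨b, hb, rfl⟩
    have h1 : (MulAut.conj g) ⟨b, hB hb⟩ ∈ (↑(g • S') : Subgroup ↥H) := by
      rw [Sylow.smul_def, Sylow.pointwise_smul_def, hS']
      exact Subgroup.smul_mem_pointwise_smul _ _ _ hb
    rw [hg, hS, Subgroup.mem_subgroupOf] at h1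
    simpa using h1
  · rw [Subgroup.card_map_of_injective (MulEquiv.injective _), hcard]

/-- A proper subgroup of a finite `p`-group grows in its normaliser. -/
theorem card_lt_card_inf_normalizer {F T : Subgroup G} (hT : IsPGroup p T) (hFT : F ≤ T)
    (hlt : Nat.card F < Nat.card T) :
    Nat.card F < Nat.card ↥(T ⊓ Subgroup.normalizer (F : Set G)) := by
  haveI : Group.IsNilpotent ↥T := hT.isNilpotent
  have hne : F.subgroupOf T < ⊤ := lt_top_iff_ne_top.2 fun h =>
    absurd (Subgroup.card_le_of_le (Subgroup.subgroupOf_eq_top.1 h)) (not_le.2 hlt)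
  obtain ⟨t, ht, ht'⟩ := SetLike.exists_of_lt (normalizerCondition_of_isNilpotent _ hne)
  have hle : F ≤ T ⊓ Subgroup.normalizer (F : Set G) := le_inf hFT Subgroup.le_normalizer
  have htn : (t : G) ∈ Subgroup.normalizer (F : Set G) := by
    rw [Subgroup.mem_normalizer_iff] at ht ⊢
    intro y
    constructor
    · exact fun hy => by simpa [Subgroup.mem_subgroupOf] using (ht ⟨y, hFT hy⟩).1 hy
    · intro hy
      have hyT : y ∈ T := by
        have h1 := mul_mem (mul_mem (inv_mem t.2) (hFT hy)) t.2
        rwa [show (t : G)⁻¹ * (↑t * y * (↑t)⁻¹) * ↑t = y by group] at h1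
      simpa [Subgroup.mem_subgroupOf] using
        (ht ⟨y, hyT⟩).2 (by simpa [Subgroup.mem_subgroupOf] using hy)
  refine lt_of_le_of_ne (Subgroup.card_le_of_le hle) fun he => ht' ?_
  rw [Subgroup.mem_subgroupOf, Subgroup.eq_of_le_of_card_ge hle he.ge]
  exact ⟨t.2, htn⟩

/-- The subgroups `⟨x⟩γ_j`. -/
def lineGroup (Q : Type*) [Group Q] (x : Q) (j : ℕ) : Subgroup Q :=
  Subgroup.zpowers x ⊔ gam Q j

theorem mem_lineGroup_self {Q : Type*} [Group Q] (x : Q) (j : ℕ) : x ∈ lineGroup Q x j :=
  Subgroup.mem_sup_left (Subgroup.mem_zpowers x)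

theorem gam_le_lineGroup {Q : Type*} [Group Q] (x : Q) (j : ℕ) : gam Q j ≤ lineGroup Q x j :=
  le_sup_right

theorem lineGroup_le_normalizer {Q : Type*} [Group Q] (x : Q) {j : ℕ} (hj : 1 ≤ j) :
    lineGroup Q x j ≤ Subgroup.normalizer (lineGroup Q x (j + 1) : Set Q) := by
  refine sup_le (Subgroup.zpowers_le.2 (Subgroup.le_normalizer (mem_lineGroup_self x _))) ?_
  suffices h : ∀ d ∈ gam Q j, ∀ y ∈ lineGroup Q x (j + 1), d * y * d⁻¹ ∈ lineGroup Q x (j + 1) by
    intro d hd
    rw [Subgroup.mem_normalizer_iff]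
    refine fun y => ⟨h d hd y, fun hy => ?_⟩
    have := h d⁻¹ (inv_mem hd) _ hy
    rwa [show d⁻¹ * (d * y * d⁻¹) * d⁻¹⁻¹ = y by group] at this
  intro d hd y hy
  rw [show d * y * d⁻¹ = ⁅d, y⁆ * y by rw [commutatorElement_def]; group]
  exact mul_mem (gam_le_lineGroup x _ (comm_mem_gam_succ hj hd y)) hy

theorem lineGroup_one {Q : Type*} [Group Q] (x : Q) : lineGroup Q x 1 = ⊤ :=
  top_le_iff.1 ((gam_one (G := Q)).symm.le.trans (gam_le_lineGroup x 1))

namespace IsMaxCl

variable {Q : Type*} [Group Q] [Finite Q] {n : ℕ} (h : IsMaxCl p Q n) {x : Q} (hx : Good Q n x)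
include h hx

theorem pow_mem_gam_last : x ^ p ∈ gam Q (n - 1) :=
  h.mem_gam_of_comm hx le_rfl (h.pow_mem_gam_two x)
    (by rw [h.pow_central hx x]; exact one_mem _)

theorem notMem_gam {j : ℕ} (hj : 2 ≤ j) : x ∉ gam Q j := fun hc => hx.1 (gam_anti hj hc)

theorem card_lineGroup {j : ℕ} (hj : 1 ≤ j) (hjn : j + 1 ≤ n) :
    Nat.card (lineGroup Q x j) = p ^ (n - j + 1) := by
  have hp : p.Prime := Fact.out
  have hp2 := hp.two_le
  rcases eq_or_lt_of_le hj with rfl | hj2
  · rw [lineGroup_one, Subgroup.card_top, h.card_eq]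
    congr 1; omega
  set π := QuotientGroup.mk' (gam Q j)
  have h1 : orderOf (π x) = p := by
    refine orderOf_eq_prime ?_ fun h1 => h.notMem_gam hx hj2 ((QuotientGroup.eq_one_iff _).1 h1)
    rw [← map_pow]
    exact (QuotientGroup.eq_one_iff _).2 (gam_anti (by omega) (h.pow_mem_gam_last hx))
  have h2 : (lineGroup Q x j).map π = Subgroup.zpowers (π x) := by
    rw [lineGroup, Subgroup.map_sup, MonoidHom.map_zpowers, QuotientGroup.map_mk'_self, sup_bot_eq]
  have h3 := Subgroup.card_mul_index ((lineGroup Q x j).map π)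
  rw [Subgroup.index_map_eq _ (QuotientGroup.mk'_surjective _)
    (by rw [QuotientGroup.ker_mk']; exact gam_le_lineGroup x j)] at h3
  have h4 := Nat.card_zpowers (π x)
  rw [h1, ← h2] at h4
  rw [h4, ← Subgroup.index_eq_card] at h3
  have h5 := (gam Q j).card_mul_index
  have h6 := (lineGroup Q x j).card_mul_index
  rw [← h3, h.card_gam j hj2 (by omega)] at h5
  rw [← h5, ← mul_assoc] at h6
  rw [pow_succ]
  exact Nat.eq_of_mul_eq_mul_right (Nat.pos_of_ne_zero Subgroup.index_ne_zero_of_finite) h6

/-- A subgroup of `⟨x⟩γ_j` containing `γ_j` and something outside it is everything. -/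
theorem lineGroup_le_of_notMem {j : ℕ} (hj : 2 ≤ j) (hjn : j + 1 ≤ n) {w : Q}
    (hw : w ∈ lineGroup Q x j) (hw' : w ∉ gam Q j) {K : Subgroup Q} (hwK : w ∈ K)
    (hK : gam Q j ≤ K) : lineGroup Q x j ≤ K := by
  have hp : p.Prime := Fact.out
  have hle : K ⊓ lineGroup Q x j ≤ lineGroup Q x j := inf_le_right
  suffices K ⊓ lineGroup Q x j = lineGroup Q x j from this ▸ inf_le_left
  refine Subgroup.eq_of_le_of_card_ge hle ?_
  have hlt : gam Q j < K ⊓ lineGroup Q x j :=
    lt_of_le_of_ne (le_inf hK (gam_le_lineGroup x j)) fun he => hw' (he.ge ⟨hwK, hw⟩)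
  obtain ⟨i, hi⟩ := IsPGroup.iff_card.1 (h.isPGroup.to_subgroup (K ⊓ lineGroup Q x j))
  have h9 : Nat.card (gam Q j) < Nat.card ↥(K ⊓ lineGroup Q x j) :=
    lt_of_le_of_ne (Subgroup.card_le_of_le hlt.le)
      fun he => hlt.ne (Subgroup.eq_of_le_of_card_ge hlt.le he.ge)
  rw [h.card_gam j hj (by omega), hi, Nat.pow_lt_pow_iff_right hp.one_lt] at h9
  rw [h.card_lineGroup hx (by omega) hjn, hi]
  exact Nat.pow_le_pow_right hp.pos (by omega)

/-- The derived group of `⟨x⟩γ_j`. -/
theorem commutator_lineGroup {j : ℕ} (hj : 2 ≤ j) (hjn : j + 1 ≤ n) :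
    ⁅lineGroup Q x j, lineGroup Q x j⁆ = gam Q (j + 1) := by
  refine le_antisymm ?_ ?_
  · set π := QuotientGroup.mk' (gam Q (j + 1))
    have hcen : lineGroup Q x j ≤ (Subgroup.centralizer {π x}).comap π := by
      refine sup_le (Subgroup.zpowers_le.2 ?_) fun a ha => ?_ <;>
        rw [Subgroup.mem_comap, Subgroup.mem_centralizer_singleton_iff]
      exact (mk_central (by omega) ha _).eq
    rw [Subgroup.commutator_le]
    intro a ha b hb
    rw [← QuotientGroup.eq_one_iff]
    show π ⁅a, b⁆ = 1
    rw [map_commutatorElement, commutatorElement_eq_one_iff_commute]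
    have hle : lineGroup Q x j ≤ (Subgroup.centralizer {π a}).comap π := by
      refine sup_le (Subgroup.zpowers_le.2 ?_) fun c hc => ?_ <;>
        rw [Subgroup.mem_comap, Subgroup.mem_centralizer_singleton_iff]
      · exact (Subgroup.mem_centralizer_singleton_iff.1 (hcen ha)).symm
      · exact (mk_central (by omega) hc _).eq
    exact (show Commute (π b) (π a) from Subgroup.mem_centralizer_singleton_iff.1 (hle hb)).symm
  · suffices H : ∀ k i, i + k = n → j + 1 ≤ i → gam Q i ≤ ⁅lineGroup Q x j, lineGroup Q x j⁆ from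
      H (n - (j + 1)) (j + 1) (by omega) le_rfl
    intro k
    induction k with
    | zero => intro i hi _; rw [h.gam_eq_bot (by omega)]; exact bot_le
    | succ k ih =>
      intro i hi hji y hy
      obtain ⟨a, ha, ha'⟩ := h.exists_notMem_succ (i := i - 1) (by omega) (by omega)
      have h1 := comm_mem_gam_succ (show 1 ≤ i - 1 by omega) ha x
      rw [show i - 1 + 1 = i by omega] at h1
      have h2 := h.comm_notMem hx (show 2 ≤ i - 1 by omega) (by omega) ha ha'
      rw [show i - 1 + 2 = i + 1 by omega] at h2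
      have h3 : ⁅a, x⁆ ∈ ⁅lineGroup Q x j, lineGroup Q x j⁆ :=
        Subgroup.commutator_mem_commutator (gam_le_lineGroup x j (gam_anti (by omega) ha))
          (mem_lineGroup_self x j)
      obtain ⟨e, he⟩ := h.exists_pow (by omega) h1 h2 hy
      have h4 := mul_mem (pow_mem h3 e) (ih (i + 1) (by omega) (by omega) he)
      rwa [mul_inv_cancel_left] at h4

/-- In `γ_1` there is an element moved one step by `x`. -/
theorem exists_comm_step {j : ℕ} (hj : 2 ≤ j) (hjn : j + 1 ≤ n) {y : Q} (hy : Good Q n y) :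
    ∃ d ∈ gam Q (j - 1), ⁅d, y⁆ ∈ gam Q j ∧ ⁅d, y⁆ ∉ gam Q (j + 1) := by
  rcases eq_or_lt_of_le hj with rfl | hj2
  · obtain ⟨s, hs, hs'⟩ : ∃ s ∈ twoStep Q 2, s ∉ gam Q 2 := by
      by_contra hne
      push_neg at hne
      have h4 := h.four_le
      have h1 := Subgroup.index_dvd_of_le (hne : twoStep Q 2 ≤ gam Q 2)
      rw [h.index_gam_two, h.index_twoStep le_rfl (by omega)] at h1
      have := Nat.le_of_dvd (Fact.out : p.Prime).pos h1
      have := (Fact.out : p.Prime).two_le
      nlinarith
    exact ⟨s, Subgroup.mem_top s, comm_mem_gam_succ le_rfl (Subgroup.mem_top s) y,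
      h.comm_notMem_one hy hs hs'⟩
  · obtain ⟨b, hb, hb'⟩ := h.exists_notMem_succ (i := j - 1) (by omega) (by omega)
    refine ⟨b, hb, ?_, ?_⟩
    · have := comm_mem_gam_succ (show 1 ≤ j - 1 by omega) hb y
      rwa [show j - 1 + 1 = j by omega] at this
    · have := h.comm_notMem hy (show 2 ≤ j - 1 by omega) (by omega) hb hb'
      rwa [show j - 1 + 2 = j + 1 by omega] at this

theorem good_mul {c : Q} (hc : c ∈ gam Q 2) : Good Q n (x * c) := by
  refine ⟨fun h1 => hx.1 ?_, fun j hj hjn h1 => hx.2 j hj hjn ?_⟩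
  · have := mul_mem h1 (inv_mem hc)
    rwa [mul_inv_cancel_right] at this
  · have := mul_mem h1 (inv_mem (gam_two_le_twoStep (by omega) hc))
    rwa [mul_inv_cancel_right] at this

end IsMaxCl

/-- If a good element of a Sylow subgroup of maximal class lies outside a normal subgroup containing
the second centre, then its centraliser has `p`-part of order `p ^ 2`. -/
theorem factorization_centralizer_of_good (P : Sylow p G) {n : ℕ}
    (h : IsMaxCl p ↥(P : Subgroup G) n) {x : ↥(P : Subgroup G)} (hx : Good _ n x)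
    (R : Subgroup G) [R.Normal]
    (hR : ∀ a : ↥(P : Subgroup G), a ∈ gam _ (n - 2) → (a : G) ∈ R) (hxR : (x : G) ∉ R) :
    (Nat.card (Subgroup.centralizer ({(x : G)} : Set G))).factorization p = 2 := by
  have hp : p.Prime := Fact.out
  have h4 := h.four_le
  let ι := (P : Subgroup G).subtype
  let E : ℕ → Subgroup G := fun j => (lineGroup _ x j).map ι
  let Γ : ℕ → Subgroup G := fun j => (gam ↥(P : Subgroup G) j).map ι
  have hcardE : ∀ j, 1 ≤ j → j + 1 ≤ n → Nat.card (E j) = p ^ (n - j + 1) := fun j h1 h2 => by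
    rw [show E j = (lineGroup _ x j).map ι from rfl,
      Subgroup.card_map_of_injective (Subgroup.subtype_injective _), h.card_lineGroup hx h1 h2]
  have hEp : ∀ j, IsPGroup p (E j) := fun j => (P.2.to_le (Subgroup.map_subtype_le _))
  have hEN : ∀ j, 1 ≤ j → E j ≤ Subgroup.normalizer (E (j + 1) : Set G) := fun j hj =>
    (Subgroup.map_mono (lineGroup_le_normalizer x hj)).trans (Subgroup.le_normalizer_map _)
  have hEΓ : ∀ j, 2 ≤ j → j + 1 ≤ n → ⁅E j, E j⁆ = Γ (j + 1) := fun j hj hjn => by
    rw [show E j = (lineGroup _ x j).map ι from rfl, ← Subgroup.map_commutator,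
      h.commutator_lineGroup hx hj hjn]
  -- the normalisers
  have hbound : ∀ j, 2 ≤ j → j + 1 ≤ n → ∀ T : Subgroup G,
      T ≤ Subgroup.normalizer (E j : Set G) → IsPGroup p T → Nat.card T ≤ p ^ (n - j + 2) := by
    intro j hj
    induction j, hj using Nat.le_induction with
    | base =>
      intro _ T _ hT
      obtain ⟨S, hS⟩ := hT.exists_le_sylow
      refine (Subgroup.card_le_of_le hS).trans (le_of_eq ?_)
      rw [S.card_eq_multiplicity, ← P.card_eq_multiplicity, h.card_eq]
      congr 1; omega
    | succ k hk ih =>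
      intro hkn T hT hTp
      by_contra hcon
      push_neg at hcon
      have ihk := ih (by omega)
      -- a larger `p`-subgroup normalising both `E k` and `E (k + 1)`
      obtain ⟨S, hFS⟩ := ((hEp k).of_equiv (Subgroup.subgroupOfEquivOfLe
        (hEN k (by omega))).symm).exists_le_sylow
      obtain ⟨S₁, hTS₁⟩ := (hTp.of_equiv (Subgroup.subgroupOfEquivOfLe hT).symm).exists_le_sylow
      let S' : Subgroup G := (S : Subgroup _).map (Subgroup.normalizer (E (k + 1) : Set G)).subtype
      have hS'p : IsPGroup p S' := S.2.map _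
      have hFS' : E k ≤ S' := by
        intro a ha
        exact ⟨⟨a, hEN k (by omega) ha⟩, hFS ha, rfl⟩
      have hlt : Nat.card (E k) < Nat.card S' := by
        have hS'c : Nat.card S' =
            Nat.card (S : Subgroup ↥(Subgroup.normalizer (E (k + 1) : Set G))) :=
          Subgroup.card_map_of_injective (Subgroup.subtype_injective _)
        rw [hS'c, S.card_eq_multiplicity,
          ← S₁.card_eq_multiplicity]
        refine lt_of_lt_of_le ?_ (Subgroup.card_le_of_le hTS₁)
        rw [Nat.card_congr (Subgroup.subgroupOfEquivOfLe hT).toEquiv, hcardE k (by omega) (by omega)]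
        exact lt_of_le_of_lt (le_of_eq (by congr 1; omega)) hcon
      have hlt' := card_lt_card_inf_normalizer hS'p hFS' hlt
      set T' := S' ⊓ Subgroup.normalizer (E k : Set G) with hT'
      have hT'p : IsPGroup p T' := hS'p.to_le inf_le_left
      have hA : E (k - 1) ≤ Subgroup.normalizer (E k : Set G) := by
        have := hEN (k - 1) (by omega)
        rwa [show k - 1 + 1 = k by omega] at this
      have hAc : Nat.card (E (k - 1)) = p ^ (n - k + 2) := by
        rw [hcardE (k - 1) (by omega) (by omega)]; congr 1; omega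
      have hT'c : Nat.card T' = Nat.card (E (k - 1)) := by
        refine le_antisymm (hAc ▸ ihk T' inf_le_right hT'p) ?_
        obtain ⟨i, hi⟩ := IsPGroup.iff_card.1 hT'p
        rw [hcardE k (by omega) (by omega), hi, Nat.pow_lt_pow_iff_right hp.one_lt] at hlt'
        rw [hAc, hi]
        exact Nat.pow_le_pow_right hp.pos (by omega)
      obtain ⟨g, hg, hgT⟩ := exists_conj_of_largest hA inf_le_right (hEp _) hT'p
        (fun U hU hUp => (ihk U hU hUp).trans hAc.ge) hT'c
      let cg := (MulAut.conj g).toMonoidHom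
      have hgF : (E k).map cg = E k := by
        refine Subgroup.eq_of_le_of_card_ge ?_ ?_
        · rintro _ ⟨a, ha, rfl⟩
          exact (Subgroup.mem_normalizer_iff.1 hg a).1 ha
        · exact (Subgroup.card_map_of_injective (f := cg) (MulEquiv.injective _)).ge
      set E' := (E (k + 1)).map cg with hE'
      have hEk : E (k + 1) ≤ E k :=
        Subgroup.map_mono (sup_le_sup_left (gam_anti (by omega)) _)
      have hE'le : E' ≤ E k := hgF ▸ Subgroup.map_mono hEk
      have hΓE' : Γ (k + 1) ≤ E' := by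
        have h1 : (Γ (k + 1)).map cg = Γ (k + 1) := by
          rw [← hEΓ k hk (by omega), Subgroup.map_commutator, hgF]
        rw [← h1]
        exact Subgroup.map_mono (Subgroup.map_mono (gam_le_lineGroup x _))
      have hAE' : E (k - 1) ≤ Subgroup.normalizer (E' : Set G) := by
        rw [← hgT]
        refine le_trans ?_ (Subgroup.le_normalizer_map _)
        refine Subgroup.map_mono (inf_le_left.trans ?_)
        exact Subgroup.map_subtype_le _
      have hE'c : Nat.card E' = p ^ (n - k) := by
        rw [hE', Subgroup.card_map_of_injective (MulEquiv.injective _), hcardE (k + 1) (by omega) hkn]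
        congr 1; omega
      -- `E'` is `γ_k`
      have hgamk : Γ k ≤ E' := by
        let e' := E'.subgroupOf (P : Subgroup G)
        by_contra hnle
        obtain ⟨y, hy, hyk⟩ : ∃ y ∈ e', y ∉ gam ↥(P : Subgroup G) k := by
          by_contra hne
          push_neg at hne
          refine hnle (le_of_eq (Subgroup.eq_of_le_of_card_ge (fun a ha => ?_) ?_).symm)
          · have haP : a ∈ (P : Subgroup G) := Subgroup.map_subtype_le _ (hE'le ha)
            exact ⟨⟨a, haP⟩, hne ⟨a, haP⟩ ha, rfl⟩
          · rw [hE'c, show Γ k = (gam ↥(P : Subgroup G) k).map ι from rfl,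
              Subgroup.card_map_of_injective (Subgroup.subtype_injective _),
              h.card_gam k (by omega) (by omega)]
        have hyl : y ∈ lineGroup _ x k := by
          obtain ⟨b, hb, hby⟩ := hE'le hy
          rwa [← Subtype.ext hby]
        have hsup : lineGroup _ x k ≤ e' ⊔ gam _ k :=
          h.lineGroup_le_of_notMem hx hk (by omega) hyl hyk (Subgroup.mem_sup_left hy) le_sup_right
        obtain ⟨z, hz, c, hc, hzc⟩ :=
          Subgroup.mem_sup_of_normal_right.1 (hsup (mem_lineGroup_self x k))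
        have hzgood : Good _ n z := by
          rw [show z = x * c⁻¹ by rw [← hzc, mul_inv_cancel_right]]
          exact h.good_mul hx (inv_mem (gam_anti hk hc))
        obtain ⟨d, hd, hd1, hd2⟩ := h.exists_comm_step hx hk (by omega) hzgood
        have hdz : ⁅d, z⁆ ∈ e' := by
          have h1 : (d : G) ∈ Subgroup.normalizer (E' : Set G) :=
            hAE' (Subgroup.mem_map_of_mem _ (gam_le_lineGroup x _ hd))
          have h2 := mul_mem ((Subgroup.mem_normalizer_iff.1 h1 (z : G)).1 hz) (inv_mem hz)
          exact h2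
        refine hnle ?_
        rintro _ ⟨a, ha, rfl⟩
        obtain ⟨e, he⟩ := h.exists_pow hk hd1 hd2 ha
        have h3 : (ι ((⁅d, z⁆ ^ e)⁻¹ * a)) ∈ E' := hΓE' (Subgroup.mem_map_of_mem _ he)
        have h4 := mul_mem (pow_mem (show ((⁅d, z⁆ : ↥(P : Subgroup G)) : G) ∈ E' from hdz) e) h3
        simpa [ι] using h4
      have hE'eq : Γ k = E' := Subgroup.eq_of_le_of_card_ge hgamk (le_of_eq (by
        rw [hE'c, show Γ k = (gam ↥(P : Subgroup G) k).map ι from rfl,
          Subgroup.card_map_of_injective (Subgroup.subtype_injective _),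
          h.card_gam k (by omega) (by omega)]))
      rcases eq_or_lt_of_le (show k + 1 ≤ n - 1 by omega) with hk1 | hk1
      · -- `x` would be conjugate into `R`
        refine hxR ?_
        have h1 : cg (x : G) ∈ Γ k := by
          rw [hE'eq]
          exact Subgroup.mem_map_of_mem _ (Subgroup.mem_map_of_mem ι (mem_lineGroup_self x _))
        obtain ⟨a, ha, hax⟩ := h1
        have h2 := hR a (by rwa [show n - 2 = k by omega])
        rw [show (a : G) = g * x * g⁻¹ from hax] at h2
        have h3 := (inferInstance : R.Normal).conj_mem _ h2 g⁻¹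
        rwa [show g⁻¹ * (g * x * g⁻¹) * g⁻¹⁻¹ = (x : G) by group] at h3
      · -- the second centre would pull back into the centre of `E (k + 1)`
        have hcomm : ∀ a ∈ gam ↥(P : Subgroup G) (n - 2), ∀ b ∈ gam ↥(P : Subgroup G) k,
            a * b = b * a := fun a ha b hb => commutatorElement_eq_one_iff_mul_comm.1
          (h.mem_gam_one (show n ≤ n - 2 + k by omega) (comm_mem_gam (by omega) (by omega) ha hb))
        have hpull : ∀ a ∈ gam ↥(P : Subgroup G) (n - 2), ∃ w ∈ lineGroup _ x (k + 1),
            g * (w : G) * g⁻¹ = (a : G) ∧ ∀ u ∈ lineGroup _ x (k + 1), Commute w u := by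
          intro a ha
          have h1 : (a : G) ∈ E' := hgamk (Subgroup.mem_map_of_mem ι (gam_anti (by omega) ha))
          obtain ⟨_, ⟨w, hw, rfl⟩, hwa⟩ := h1
          refine ⟨w, hw, hwa, fun u hu => ?_⟩
          have h2 : cg (u : G) ∈ Γ k := by
            rw [hE'eq]
            exact Subgroup.mem_map_of_mem _ (Subgroup.mem_map_of_mem ι hu)
          obtain ⟨b, hb, hbu⟩ := h2
          refine Subtype.ext ?_
          refine (MulAut.conj g).injective ?_
          show cg ((w : G) * u) = cg ((u : G) * w)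
          rw [map_mul, map_mul, show cg (w : G) = (a : G) from hwa, ← hbu]
          exact congrArg Subtype.val (hcomm a ha b hb)
        have hsmall : ∀ a ∈ gam ↥(P : Subgroup G) (n - 2),
            (a : G) ∈ ((gam ↥(P : Subgroup G) (n - 1)).map ι).map cg := by
          intro a ha
          obtain ⟨w, hw, hwa, hwc⟩ := hpull a ha
          refine ⟨w, ⟨w, ?_, rfl⟩, hwa⟩
          by_cases hwg : w ∈ gam ↥(P : Subgroup G) (k + 1)
          · refine h.mem_gam_of_comm hx le_rfl (gam_anti (by omega) hwg) ?_
            rw [commutatorElement_eq_one_iff_commute.2 (hwc x (mem_lineGroup_self x _))]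
            exact one_mem _
          · exfalso
            obtain ⟨b, hb, hb'⟩ := h.exists_notMem_succ (i := n - 2) (by omega) (by omega)
            refine h.comm_notMem hx (show 2 ≤ n - 2 by omega) (by omega) hb hb' ?_
            have hbw : Commute b w :=
              (hwc b (gam_le_lineGroup x _ (gam_anti (by omega) hb))).symm
            have h1 := h.lineGroup_le_of_notMem hx (by omega) hkn hw hwg
              (K := Subgroup.centralizer {b}) (Subgroup.mem_centralizer_singleton_iff.2 hbw.symm.eq)
              (fun c hc => Subgroup.mem_centralizer_singleton_iff.2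
                (hcomm b hb c (gam_anti (by omega) hc)).symm) (mem_lineGroup_self x _)
            rw [commutatorElement_eq_one_iff_commute.2
              (show Commute b x from (Subgroup.mem_centralizer_singleton_iff.1 h1).symm)]
            exact one_mem _
        have h5 := Subgroup.card_le_of_le (show Γ (n - 2) ≤ (Γ (n - 1)).map cg by
          rintro _ ⟨a, ha, rfl⟩; exact hsmall a ha)
        rw [Subgroup.card_map_of_injective (f := cg) (MulEquiv.injective _),
          Subgroup.card_map_of_injective (f := ι) (Subgroup.subtype_injective _),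
          Subgroup.card_map_of_injective (f := ι) (Subgroup.subtype_injective _),
          h.card_gam _ (by omega) (by omega), h.card_gam _ (by omega) (by omega),
          Nat.pow_le_pow_iff_right hp.one_lt] at h5
        omega
  -- the centraliser
  set C := Subgroup.centralizer ({(x : G)} : Set G) with hC
  have hEC : E (n - 1) ≤ C := by
    rintro _ ⟨w, hw, rfl⟩
    rw [hC, Subgroup.mem_centralizer_singleton_iff]
    have h1 : lineGroup _ x (n - 1) ≤ Subgroup.centralizer {x} := by
      refine sup_le (Subgroup.zpowers_le.2 (Subgroup.mem_centralizer_singleton_iff.2 rfl))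
        fun c hc => Subgroup.mem_centralizer_singleton_iff.2 ?_
      exact commutatorElement_eq_one_iff_mul_comm.1
        (h.mem_gam_one (show n ≤ n - 1 + 1 by omega) (comm_mem_gam_succ (by omega) hc x))
    exact congrArg Subtype.val (Subgroup.mem_centralizer_singleton_iff.1 (h1 hw))
  obtain ⟨S, hS⟩ := ((hEp (n - 1)).of_equiv
    (Subgroup.subgroupOfEquivOfLe hEC).symm).exists_le_sylow
  have h1 := Subgroup.card_le_of_le hS
  rw [Nat.card_congr (Subgroup.subgroupOfEquivOfLe hEC).toEquiv,
    hcardE (n - 1) (by omega) (by omega), S.card_eq_multiplicity,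
    Nat.pow_le_pow_iff_right hp.one_lt, show n - (n - 1) + 1 = 2 by omega] at h1
  refine le_antisymm ?_ h1
  by_contra hcon
  push_neg at hcon
  let S' : Subgroup G := (S : Subgroup _).map C.subtype
  have hS'p : IsPGroup p S' := S.2.map _
  have hES' : E (n - 1) ≤ S' := fun a ha => ⟨⟨a, hEC ha⟩, hS ha, rfl⟩
  have hlt : Nat.card (E (n - 1)) < Nat.card S' := by
    have hS'c : Nat.card S' = Nat.card (S : Subgroup ↥C) :=
      Subgroup.card_map_of_injective (Subgroup.subtype_injective _)
    rw [hS'c, S.card_eq_multiplicity,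
      hcardE (n - 1) (by omega) (by omega), Nat.pow_lt_pow_iff_right hp.one_lt]
    omega
  have hlt' := card_lt_card_inf_normalizer hS'p hES' hlt
  set T := S' ⊓ Subgroup.normalizer (E (n - 1) : Set G) with hT
  have hTp : IsPGroup p T := hS'p.to_le inf_le_left
  have hA : E (n - 2) ≤ Subgroup.normalizer (E (n - 1) : Set G) := by
    have := hEN (n - 2) (by omega)
    rwa [show n - 2 + 1 = n - 1 by omega] at this
  have hAc : Nat.card (E (n - 2)) = p ^ 3 := by
    rw [hcardE (n - 2) (by omega) (by omega)]; congr 1; omega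
  have hb := hbound (n - 1) (by omega) (by omega)
  rw [show n - (n - 1) + 2 = 3 by omega] at hb
  have hTc : Nat.card T = Nat.card (E (n - 2)) := by
    refine le_antisymm (hAc ▸ hb T inf_le_right hTp) ?_
    obtain ⟨i, hi⟩ := IsPGroup.iff_card.1 hTp
    rw [hcardE (n - 1) (by omega) (by omega), hi, Nat.pow_lt_pow_iff_right hp.one_lt] at hlt'
    rw [hAc, hi]
    exact Nat.pow_le_pow_right hp.pos (by omega)
  obtain ⟨g, hg, hgT⟩ := exists_conj_of_largest hA inf_le_right (hEp _) hTp
    (fun U hU hUp => (hb U hU hUp).trans hAc.ge) hTc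
  let cg := (MulAut.conj g).toMonoidHom
  have hu : cg (x : G) ∈ E (n - 1) := (Subgroup.mem_normalizer_iff.1 hg (x : G)).1
    (Subgroup.mem_map_of_mem ι (mem_lineGroup_self x _))
  obtain ⟨u, hul, hux⟩ := hu
  by_cases hug : u ∈ gam ↥(P : Subgroup G) (n - 1)
  · refine hxR ?_
    have h2 := hR u (gam_anti (by omega) hug)
    rw [show (u : G) = g * x * g⁻¹ from hux] at h2
    have h3 := (inferInstance : R.Normal).conj_mem _ h2 g⁻¹
    rwa [show g⁻¹ * (g * x * g⁻¹) * g⁻¹⁻¹ = (x : G) by group] at h3
  obtain ⟨b, hb', hb''⟩ := h.exists_notMem_succ (i := n - 2) (by omega) (by omega)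
  refine h.comm_notMem hx (show 2 ≤ n - 2 by omega) (by omega) hb' hb'' ?_
  have hbT : (b : G) ∈ T.map cg := by
    rw [hgT]; exact Subgroup.mem_map_of_mem ι (gam_le_lineGroup x _ hb')
  obtain ⟨t, ⟨⟨s, -, hst⟩, -⟩, htb⟩ := hbT
  have htx : t * (x : G) = x * t := by
    rw [← hst]; exact Subgroup.mem_centralizer_singleton_iff.1 s.2
  have hbu : Commute b u := Subtype.ext (by
    show (b : G) * u = (u : G) * b
    rw [show (u : G) = cg (x : G) from hux, ← htb, ← map_mul, ← map_mul, htx])
  have h6 := h.lineGroup_le_of_notMem hx (by omega) (by omega) hul hug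
    (K := Subgroup.centralizer {b}) (Subgroup.mem_centralizer_singleton_iff.2 hbu.symm.eq)
    (fun c hc => Subgroup.mem_centralizer_singleton_iff.2 (commutatorElement_eq_one_iff_mul_comm.1
      (h.mem_gam_one (show n ≤ n - 1 + (n - 2) by omega) (comm_mem_gam (by omega) (by omega) hc hb'))))
    (mem_lineGroup_self x _)
  rw [commutatorElement_eq_one_iff_commute.2
    (show Commute b x from (Subgroup.mem_centralizer_singleton_iff.1 h6).symm)]
  exact one_mem _

end CfsgLib.PGroup.MaxClass
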